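import Mathlib
import Cfsg.Agent.Classical.Linear.Card
import Cfsg.Agent.SpecLinear.Group

/-!
Block diagonal elements of `SL_n` and their orders in `PSL_n`.
-/

set_option autoImplicit false

namespace CfsgLib.PrimeGraphPSL

open Matrix

variable {F : Type*} [Field F] {a b n : ℕ}

/-- Splitting `Fin n` into two blocks. -/
def blockEquiv (h : a + b = n) : Fin a ⊕ Fin b ≃ Fin n := finSumFinEquiv.trans (finCongr h)

/-- A block diagonal element of `SL_n`. -/
def blockSL (h : a + b = n) (A : Matrix (Fin a) (Fin a) F) (T : Matrix (Fin b) (Fin b) F)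
    (hdet : A.det * T.det = 1) : Matrix.SpecialLinearGroup (Fin n) F :=
  ⟨Matrix.reindexAlgEquiv F F (blockEquiv h) (Matrix.fromBlocks A 0 0 T), by
    rw [Matrix.det_reindexAlgEquiv, Matrix.det_fromBlocks_zero₁₂, hdet]⟩

theorem fromBlocks_pow (A : Matrix (Fin a) (Fin a) F) (T : Matrix (Fin b) (Fin b) F) (m : ℕ) :
    Matrix.fromBlocks A 0 0 T ^ m = Matrix.fromBlocks (A ^ m) 0 0 (T ^ m) := by
  induction m with
  | zero => simp [Matrix.fromBlocks_one]
  | succ m ih => simp [pow_succ, ih, Matrix.fromBlocks_multiply]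

theorem fromBlocks_eq_algebraMap {A : Matrix (Fin a) (Fin a) F} {T : Matrix (Fin b) (Fin b) F}
    {c : F} : Matrix.fromBlocks A 0 0 T = algebraMap F _ c ↔
      A = algebraMap F _ c ∧ T = algebraMap F _ c := by
  rw [Algebra.algebraMap_eq_smul_one, ← Matrix.fromBlocks_one, Matrix.fromBlocks_smul,
    Matrix.fromBlocks_inj, ← Algebra.algebraMap_eq_smul_one, ← Algebra.algebraMap_eq_smul_one,
    smul_zero, smul_zero]
  simp

theorem proj_blockSL_pow_eq_one_iff (h : a + b = n) (A : Matrix (Fin a) (Fin a) F)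
    (T : Matrix (Fin b) (Fin b) F) (hdet : A.det * T.det = 1) (m : ℕ) :
    SpecLinear.proj (blockSL h A T hdet) ^ m = 1 ↔
      ∃ c : F, A ^ m = algebraMap F _ c ∧ T ^ m = algebraMap F _ c := by
  rw [SpecLinear.proj_pow_eq_one_iff]
  refine exists_congr fun c => ?_
  rw [blockSL, ← map_pow, ← (Matrix.reindexAlgEquiv F F (blockEquiv h)).commutes c,
    EmbeddingLike.apply_eq_iff_eq, fromBlocks_pow, fromBlocks_eq_algebraMap]

theorem orderOf_blockSL (h : a + b = n) (A : Matrix (Fin a) (Fin a) F)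
    (T : Matrix (Fin b) (Fin b) F) (hdet : A.det * T.det = 1) {r p : ℕ} (hr : r.Prime)
    (hp : p.Prime) {c : F} (hA : A ^ (r * p) = algebraMap F _ c)
    (hT : T ^ (r * p) = algebraMap F _ c)
    (hnr : ∀ c : F, A ^ r = algebraMap F _ c → T ^ r ≠ algebraMap F _ c)
    (hnp : ∀ c : F, A ^ p = algebraMap F _ c → T ^ p ≠ algebraMap F _ c) :
    orderOf (SpecLinear.proj (blockSL h A T hdet)) = r * p := by
  have hdvd := orderOf_dvd_of_pow_eq_one ((proj_blockSL_pow_eq_one_iff h A T hdet _).2 ⟨c, hA, hT⟩)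
  have h1 : ¬ orderOf (SpecLinear.proj (blockSL h A T hdet)) ∣ r := fun hd => by
    obtain ⟨c, hc1, hc2⟩ := (proj_blockSL_pow_eq_one_iff h A T hdet r).1 (orderOf_dvd_iff_pow_eq_one.1 hd)
    exact hnr c hc1 hc2
  have h2 : ¬ orderOf (SpecLinear.proj (blockSL h A T hdet)) ∣ p := fun hd => by
    obtain ⟨c, hc1, hc2⟩ := (proj_blockSL_pow_eq_one_iff h A T hdet p).1 (orderOf_dvd_iff_pow_eq_one.1 hd)
    exact hnp c hc1 hc2
  obtain ⟨d, e, hd, he, hde⟩ := Nat.dvd_mul.1 hdvd
  rcases (Nat.dvd_prime hr).1 hd with rfl | rfl <;> rcases (Nat.dvd_prime hp).1 he with rfl | rfl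
  · exact absurd (by rw [← hde, mul_one]; exact one_dvd r) h1
  · exact absurd (by rw [← hde, one_mul]) h2
  · exact absurd (by rw [← hde, mul_one]) h1
  · exact hde.symm

theorem transvection_pow {i j : Fin b} (hij : i ≠ j) (m : ℕ) :
    Matrix.transvection i j (1 : F) ^ m = Matrix.transvection i j (m : F) := by
  induction m with
  | zero => simp
  | succ m ih => rw [pow_succ, ih, Matrix.transvection_mul_transvection_same _ _ hij]; simp

/-- `x ⊕ (unipotent)` has order `r p` in `PSL`. -/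
theorem exists_orderOf_of_block (hn : a + 2 ≤ n) (A : Matrix (Fin a) (Fin a) F) (hA : A.det = 1)
    {r p : ℕ} [CharP F p] (hr : r.Prime) (hp : p.Prime) (hrp : r ≠ p) (hAr : A ^ r = 1)
    (hA1 : A ≠ 1) :
    ∃ x : Matrix.ProjectiveSpecialLinearGroup (Fin n) F, orderOf x = r * p := by
  obtain ⟨b, rfl⟩ : ∃ b, n = a + (b + 2) := ⟨n - a - 2, by omega⟩
  have h01 : (0 : Fin (b + 2)) ≠ 1 := zero_ne_one
  have hdetT : (Matrix.transvection (0 : Fin (b + 2)) 1 (1 : F)).det = 1 :=
    Matrix.det_transvection_of_ne _ _ h01 _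
  refine ⟨_, orderOf_blockSL (h := rfl) A (Matrix.transvection (0 : Fin (b + 2)) 1 (1 : F))
    (by rw [hA, hdetT, one_mul]) hr hp (c := 1) ?_ ?_ ?_ ?_⟩
  · rw [pow_mul, hAr, one_pow, map_one]
  · rw [transvection_pow h01, Nat.cast_mul, CharP.cast_eq_zero F p, mul_zero,
      Matrix.transvection_zero, map_one]
  · intro c _ hT
    rw [transvection_pow h01] at hT
    have := congrFun (congrFun hT 0) 1
    simp [Matrix.transvection, Matrix.algebraMap_matrix_apply] at this
    exact hrp ((Nat.prime_dvd_prime_iff_eq hp hr).1 ((CharP.cast_eq_zero_iff F p r).1 this)).symm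
  · intro c hAp hT
    rw [transvection_pow h01, CharP.cast_eq_zero F p, Matrix.transvection_zero] at hT
    have hc : c = 1 := by
      have := congrFun (congrFun hT 0) 0
      simpa [Matrix.algebraMap_matrix_apply] using this.symm
    rw [hc, map_one] at hAp
    have hco : Nat.gcd r p = 1 := (Nat.coprime_primes hr hp).2 hrp
    apply hA1
    have := pow_gcd_eq_one.2 ⟨hAr, hAp⟩
    rwa [hco, pow_one] at this

end CfsgLib.PrimeGraphPSL
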