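import Mathlib
import Cfsg.Agent.PrimeGraphPSL.Blocks
import Cfsg.Agent.CommutingOrderP.Basic
import Cfsg.Agent.Classical.Semisimple.PrimeOrder
import Cfsg.Agent.Classical.Linear.Transvection
import Cfsg.Agent.SL2.Elements

/-!
Adjacency of `r` and the characteristic in the prime graph of `PSL_n(q)`.
-/

set_option autoImplicit false

namespace CfsgLib.PrimeGraphPSL

open Matrix CfsgLib.Classical.Semisimple

variable {F : Type*} [Field F] [Fintype F]

section Existence

theorem exists_gl_orderOf {k r : ℕ} [hr : Fact r.Prime] (hk : 0 < k)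
    (h : r ∣ Fintype.card F ^ k - 1) : ∃ A : GL (Fin k) F, orderOf A = r := by
  classical
  haveI : NeZero k := ⟨hk.ne'⟩
  refine exists_prime_orderOf_dvd_card' r ?_
  rw [Matrix.card_GL_field]
  refine dvd_trans ?_ (Finset.dvd_prod_of_mem _ (Finset.mem_univ (0 : Fin k)))
  simpa using h

/-- Existence when `k ≤ n - 2` and either `k ≥ 2` or `n ≥ 4`. -/
theorem exists_rp_large {n p r k : ℕ} [CharP F p] [hr : Fact r.Prime] (hp : p.Prime) (hr2 : r ≠ 2)
    (hrp : r ≠ p) (hk : k = orderOf (Fintype.card F : ZMod r)) (hkn : k + 2 ≤ n)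
    (hbig : 2 ≤ k ∨ 4 ≤ n) :
    ∃ x : Matrix.ProjectiveSpecialLinearGroup (Fin n) F, orderOf x = r * p := by
  have hrF : (r : F) ≠ 0 := fun h =>
    hrp ((Nat.prime_dvd_prime_iff_eq hp hr.out).1 ((CharP.cast_eq_zero_iff F p r).1 h)).symm
  have hk0 : 0 < k := hk ▸ orderOf_card_pos hrF
  have hdvd : r ∣ Fintype.card F ^ k - 1 := (dvd_pow_sub_one_iff_orderOf_dvd k).2 (hk ▸ dvd_rfl)
  rcases (show 2 ≤ k ∨ k = 1 by omega) with h2 | h1
  · obtain ⟨A, hA⟩ := exists_gl_orderOf hk0 hdvd
    have hAr : (A : Matrix (Fin k) (Fin k) F) ^ r = 1 := by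
      rw [← Units.val_pow_eq_pow_val, ← hA, pow_orderOf_eq_one, Units.val_one]
    refine exists_orderOf_of_block hkn _ ?_ hr.out hp hrp hAr fun h => ?_
    · refine eq_one_of_pow_eq_one (r := r) (by rw [← hk]; omega) ?_
      rw [← Matrix.det_pow, hAr, Matrix.det_one]
    · rw [Units.val_eq_one.1 h, orderOf_one] at hA
      exact hr.out.one_lt.ne hA
  · have hq : r ∣ Nat.card Fˣ := by
      rw [CfsgLib.Classical.Linear.natCard_units]
      simpa [h1] using hdvd
    obtain ⟨u, hu⟩ := exists_prime_orderOf_dvd_card' r hq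
    have hur : (u : F) ^ r = 1 := by
      rw [← Units.val_pow_eq_pow_val, ← hu, pow_orderOf_eq_one, Units.val_one]
    refine exists_orderOf_of_block (a := 2) (by omega)
      (Matrix.diagonal ![(u : F), ((u⁻¹ : Fˣ) : F)]) ?_ hr.out hp hrp ?_ ?_
    · simp [Matrix.det_diagonal, Fin.prod_univ_two]
    · rw [Matrix.diagonal_pow, ← Matrix.diagonal_one]
      congr 1
      funext i
      fin_cases i <;> simp [inv_pow, hur]
    · intro h
      have := congrFun (congrFun h 0) 0
      simp at this
      rw [this, orderOf_one] at hu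
      exact hr.out.one_lt.ne hu

/-- Existence in `PSL₃`: a homothety on a plane times a transvection of that plane. -/
theorem exists_rp_three {p r : ℕ} [CharP F p] (hp : p.Prime) (hr : r.Prime) (hrp : r ≠ p)
    (u : Fˣ) (h1 : u ^ (3 * (r * p)) = 1) (h2 : u ^ (3 * p) ≠ 1) :
    ∃ x : Matrix.ProjectiveSpecialLinearGroup (Fin 3) F, orderOf x = r * p := by
  have h01 : (0 : Fin 2) ≠ 1 := zero_ne_one
  set w : F := ((u⁻¹ ^ 2 : Fˣ) : F) with hw
  have hpow : ∀ m : ℕ, ((u : F) • Matrix.transvection (0 : Fin 2) 1 (1 : F)) ^ m =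
      ((u : F) ^ m) • Matrix.transvection (0 : Fin 2) 1 (m : F) := fun m => by
    rw [smul_pow, transvection_pow h01]
  refine ⟨_, orderOf_blockSL (show 1 + 2 = 3 from rfl) (Matrix.diagonal fun _ : Fin 1 => w)
    ((u : F) • Matrix.transvection (0 : Fin 2) 1 (1 : F)) ?_ hr hp (c := (u : F) ^ (r * p))
    ?_ ?_ ?_ ?_⟩
  · rw [Matrix.det_smul, Matrix.det_transvection_of_ne _ _ h01, Matrix.det_diagonal]
    simp [hw, ← mul_pow]
  · rw [Matrix.diagonal_pow, Algebra.algebraMap_eq_smul_one, ← Matrix.diagonal_one,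
      ← Matrix.diagonal_smul]
    congr 1
    funext i
    have h3 : (u⁻¹ ^ 2 : Fˣ) ^ (r * p) = u ^ (r * p) := by
      rw [inv_pow, inv_pow, inv_eq_iff_mul_eq_one, ← pow_mul, ← pow_add, ← h1]
      congr 1
      ring
    show w ^ (r * p) = (u : F) ^ (r * p) • (1 : F)
    rw [hw, ← Units.val_pow_eq_pow_val, h3, Units.val_pow_eq_pow_val, smul_eq_mul, mul_one]
  · rw [hpow, Nat.cast_mul, CharP.cast_eq_zero F p, mul_zero, Matrix.transvection_zero,
      Algebra.algebraMap_eq_smul_one]
  · intro c _ hT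
    rw [hpow] at hT
    have := congrFun (congrFun hT 0) 1
    simp [Matrix.transvection, Matrix.algebraMap_matrix_apply] at this
    exact hrp ((Nat.prime_dvd_prime_iff_eq hp hr).1 ((CharP.cast_eq_zero_iff F p r).1 this)).symm
  · intro c hAp hT
    rw [hpow, CharP.cast_eq_zero F p, Matrix.transvection_zero] at hT
    have hc : c = (u : F) ^ p := by
      have := congrFun (congrFun hT 0) 0
      simpa [Matrix.algebraMap_matrix_apply] using this.symm
    have := congrFun (congrFun hAp 0) 0
    simp [Matrix.diagonal_pow, Matrix.algebraMap_matrix_apply, hc, hw] at this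
    apply h2
    refine Units.ext ?_
    have hu0 : (u : F) ≠ 0 := u.ne_zero
    rw [Units.val_pow_eq_pow_val, Units.val_one, show 3 * p = 2 * p + p by ring, pow_add, pow_mul]
    field_simp at this
    linear_combination -this

end Existence

section Nonexistence

variable {n p r : ℕ}

theorem eq_self_of_invariant [hr : Fact r.Prime] (hrF : (r : F) ≠ 0) {V : Type*} [AddCommGroup V]
    [Module F V] [FiniteDimensional F V] (Y : Module.End F V) (hY : Y ^ r = 1) (W : Submodule F V)
    (hW : ∀ w ∈ W, Y w ∈ W) (hd : Module.finrank F W < orderOf (Fintype.card F : ZMod r)) :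
    ∀ w ∈ W, Y w = w := by
  set f : Module.End F W := LinearMap.restrict Y hW
  have hfpow : ∀ (k : ℕ) (w : W), ((f ^ k) w : V) = (Y ^ k) (w : V) := by
    intro k
    induction k with
    | zero => intro w; rfl
    | succ k ih =>
      intro w
      rw [pow_succ, pow_succ, Module.End.mul_apply, Module.End.mul_apply, ih]
      rfl
  have hf : f ^ r = 1 := by
    refine LinearMap.ext fun w => Subtype.ext ?_
    rw [hfpow, hY]
    rfl
  have h0 : Module.finrank F (LinearMap.range (f - (1 : F) • 1)) = 0 := by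
    by_contra hne
    have h1 := Nat.le_of_dvd (Nat.pos_of_ne_zero hne) (orderOf_dvd_finrank_range hrF hf)
    have h2 := Submodule.finrank_le (LinearMap.range (f - (1 : F) • 1))
    omega
  intro w hw
  rw [Submodule.finrank_eq_zero, LinearMap.range_eq_bot] at h0
  have := congrArg Subtype.val (LinearMap.congr_fun h0 ⟨w, hw⟩)
  simpa [f, sub_eq_zero] using this

/-- The representation of `SL_n` on column vectors. -/
noncomputable def toEndHom (n : ℕ) (F : Type*) [Field F] :
    Matrix.SpecialLinearGroup (Fin n) F →* Module.End F (Fin n → F) :=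
  (Matrix.toLinAlgEquiv' : Matrix (Fin n) (Fin n) F ≃ₐ[F]
    Module.End F (Fin n → F)).toMonoidHom.comp
    { toFun := fun g => (g : Matrix (Fin n) (Fin n) F)
      map_one' := rfl
      map_mul' := fun _ _ => rfl }

omit [Fintype F] in
theorem toEndHom_injective : Function.Injective (toEndHom n F) := fun _ _ e =>
  Subtype.ext (Matrix.toLinAlgEquiv'.injective e)

theorem coprime_center [Fact p.Prime] [CharP F p] (hn : 0 < n) :
    Nat.Coprime p (Nat.card (Subgroup.center (Matrix.SpecialLinearGroup (Fin n) F))) := by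
  have hp : p.Prime := Fact.out
  haveI : Nonempty (Fin n) := ⟨⟨0, hn⟩⟩
  rw [CfsgLib.Classical.Linear.center_sl_card]
  refine hp.coprime_iff_not_dvd.2 fun h => ?_
  have h' := h.trans (Nat.gcd_dvd_right _ _)
  obtain ⟨k, -, hk⟩ := FiniteField.card F p
  have hq : p ∣ Fintype.card F := hk ▸ dvd_pow_self p k.pos.ne'
  have := Nat.dvd_sub hq h'
  rw [Nat.sub_sub_self Fintype.card_pos] at this
  exact hp.not_dvd_one this

/-- An element of order `r p` gives a non-trivial unipotent element commuting with a lift. -/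
theorem exists_unipotent_of_orderOf [Fact p.Prime] [CharP F p] (hn : 0 < n) (hr : r.Prime)
    (x : Matrix.ProjectiveSpecialLinearGroup (Fin n) F) (hx : orderOf x = r * p) :
    ∃ u : Matrix.SpecialLinearGroup (Fin n) F, u ^ p = 1 ∧ u ≠ 1 ∧ orderOf (x ^ p) = r ∧
      ∀ g : Matrix.SpecialLinearGroup (Fin n) F, (∃ m : ℕ, SpecLinear.proj g = x ^ m) →
        Commute u g := by
  have hp : p.Prime := Fact.out
  have hxr : orderOf (x ^ r) = p := by
    rw [orderOf_pow' _ hr.ne_zero, hx, Nat.gcd_eq_right (dvd_mul_right r p),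
      Nat.mul_div_cancel_left _ hr.pos]
  have hxp : orderOf (x ^ p) = r := by
    rw [orderOf_pow' _ hp.ne_zero, hx, Nat.gcd_eq_right (dvd_mul_left p r),
      Nat.mul_div_cancel _ hp.pos]
  set Z := Subgroup.center (Matrix.SpecialLinearGroup (Fin n) F)
  obtain ⟨u, hu, hua, huo⟩ :=
    CfsgLib.CommutingOrderP.exists_lift_pow Z (coprime_center hn) (x ^ r) hxr
  refine ⟨u, hu, fun h => ?_, hxp, fun g ⟨m, hm⟩ => ?_⟩
  · rw [h] at hua
    rw [← hua, QuotientGroup.mk_one, orderOf_one] at huo
    exact hp.one_lt.ne huo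
  · refine CfsgLib.CommutingOrderP.commute_of_lifts Z le_rfl (coprime_center hn) u g hu ?_
    rw [hua, show (g : Matrix.SpecialLinearGroup (Fin n) F ⧸ Z) = x ^ m from hm]
    exact ((Commute.refl x).pow_pow _ _).pow_left _

/-- No element of order `r p` when the order of `q` modulo `r` is at least `max 2 (n - 1)`. -/
theorem not_orderOf_rp_of_large [Fact p.Prime] [CharP F p] [hr : Fact r.Prime] (hrp : r ≠ p)
    (hn : 3 ≤ n) {k : ℕ} (hk : k = orderOf (Fintype.card F : ZMod r)) (hk2 : 2 ≤ k)
    (hkn : n - 2 < k) (x : Matrix.ProjectiveSpecialLinearGroup (Fin n) F) :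
    orderOf x ≠ r * p := by
  intro hx
  obtain ⟨m, rfl⟩ : ∃ m, n = m + 2 := ⟨n - 2, by omega⟩
  obtain ⟨u, hu, hu1, hxp, hcom⟩ := exists_unipotent_of_orderOf (by omega) hr.out x hx
  have hrF : (r : F) ≠ 0 := fun h =>
    hrp ((Nat.prime_dvd_prime_iff_eq Fact.out hr.out).1 ((CharP.cast_eq_zero_iff F p r).1 h)).symm
  set Z := Subgroup.center (Matrix.SpecialLinearGroup (Fin (m + 2)) F)
  have hcr : Nat.Coprime r (Nat.card Z) := by
    rw [CfsgLib.Classical.Linear.center_sl_card]
    refine hr.out.coprime_iff_not_dvd.2 fun h => ?_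
    have h' : r ∣ Fintype.card F ^ 1 - 1 := by rw [pow_one]; exact h.trans (Nat.gcd_dvd_right _ _)
    rw [dvd_pow_sub_one_iff_orderOf_dvd, ← hk, Nat.dvd_one] at h'
    omega
  obtain ⟨y, hy, hyc, hyo⟩ := CfsgLib.CommutingOrderP.exists_lift_pow Z hcr _ hxp
  have hcomm : Commute u y := hcom y ⟨p * Nat.card Z, by rw [pow_mul]; exact hyc⟩
  have hN : (toEndHom (m + 2) F u - 1) ^ p = 0 := by
    have h0 : ((u : Matrix (Fin (m + 2)) (Fin (m + 2)) F) - 1) ^ p = 0 := by
      rw [sub_pow_char_of_commute p (Commute.one_right _), one_pow,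
        ← Matrix.SpecialLinearGroup.coe_pow, hu, Matrix.SpecialLinearGroup.coe_one, sub_self]
    have h1 : toEndHom (m + 2) F u - 1 =
        Matrix.toLinAlgEquiv' ((u : Matrix (Fin (m + 2)) (Fin (m + 2)) F) - 1) := by
      rw [map_sub, map_one]
      rfl
    rw [h1, ← map_pow, h0, map_zero]
  have hY : toEndHom (m + 2) F y ^ r = 1 := by rw [← map_pow, hy, map_one]
  rcases CfsgLib.CommutingOrderP.eq_zero_or_eq_one hrF (by simp : _ = m + 2) (by omega)
      (toEndHom (m + 2) F u - 1) (toEndHom (m + 2) F y) hN hY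
      ((show Commute (toEndHom (m + 2) F y) (toEndHom (m + 2) F u) from
        (hcomm.map _).symm).sub_right (Commute.one_right _))
      (fun W hW hd => eq_self_of_invariant hrF _ hY W hW (by omega)) with h | h
  · exact hu1 (toEndHom_injective (by rw [map_one]; exact sub_eq_zero.1 h))
  · have h1 : y = 1 := toEndHom_injective (by rw [map_one]; exact h)
    rw [h1] at hyc
    rw [← hyc, QuotientGroup.mk_one, orderOf_one] at hyo
    exact hr.out.one_lt.ne hyo

/-- No element of order `r p` in `PSL₂` for odd `r`. -/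
theorem not_orderOf_rp_two [Fact p.Prime] [CharP F p] (hr : r.Prime) (hr2 : r ≠ 2) (hrp : r ≠ p)
    (x : Matrix.ProjectiveSpecialLinearGroup (Fin 2) F) : orderOf x ≠ r * p := by
  intro hx
  obtain ⟨u, hu, hu1, hxp, hcom⟩ := exists_unipotent_of_orderOf two_pos hr x hx
  set Z := Subgroup.center (Matrix.SpecialLinearGroup (Fin 2) F)
  have hcr : Nat.Coprime r (Nat.card Z) := by
    rw [CfsgLib.Classical.Linear.center_sl_card, Fintype.card_fin]
    exact Nat.Coprime.coprime_dvd_right (Nat.gcd_dvd_left _ _)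
      ((Nat.coprime_primes hr Nat.prime_two).2 hr2)
  obtain ⟨y, hy, hyc, hyo⟩ := CfsgLib.CommutingOrderP.exists_lift_pow Z hcr _ hxp
  have hcomm : Commute u y := hcom y ⟨p * Nat.card Z, by rw [pow_mul]; exact hyc⟩
  have huc : u ∉ Z := fun hz => by
    have h2 : (⟨u, hz⟩ : Z) ^ p = 1 := Subtype.ext hu
    have h3 := pow_gcd_eq_one.2 ⟨h2, pow_card_eq_one'⟩
    rw [coprime_center (F := F) (p := p) two_pos, pow_one] at h3
    exact hu1 (congrArg Subtype.val h3)
  obtain ⟨a, b, hab⟩ := (CfsgLib.SL2.mem_centralizer_iff_exists huc).1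
    (Subgroup.mem_centralizer_singleton_iff.2 hcomm.symm.eq)
  have hyp : y ^ p ∈ Z := by
    refine Matrix.SpecialLinearGroup.mem_center_iff.2 ⟨a ^ p + b ^ p, ?_, ?_⟩
    rotate_left
    · rw [Matrix.SpecialLinearGroup.coe_pow, hab,
        add_pow_char_of_commute p ((Commute.one_left _).smul_left a |>.smul_right b), smul_pow,
        smul_pow, one_pow, ← Matrix.SpecialLinearGroup.coe_pow, hu,
        Matrix.SpecialLinearGroup.coe_one, ← add_smul, Matrix.smul_one_eq_diagonal]
      rfl
    · have h := congrArg Matrix.det (show ((y ^ p : Matrix.SpecialLinearGroup (Fin 2) F) :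
          Matrix (Fin 2) (Fin 2) F) = (a ^ p + b ^ p) • 1 by
        rw [Matrix.SpecialLinearGroup.coe_pow, hab,
          add_pow_char_of_commute p ((Commute.one_left _).smul_left a |>.smul_right b), smul_pow,
          smul_pow, one_pow, ← Matrix.SpecialLinearGroup.coe_pow, hu,
          Matrix.SpecialLinearGroup.coe_one, ← add_smul])
      rw [Matrix.SpecialLinearGroup.det_coe, Matrix.det_smul, Matrix.det_one, mul_one] at h
      exact h.symm
  have h1 : (y : Matrix.SpecialLinearGroup (Fin 2) F ⧸ Z) ^ r = 1 := by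
    rw [← QuotientGroup.mk_pow, hy, QuotientGroup.mk_one]
  have h2 : (y : Matrix.SpecialLinearGroup (Fin 2) F ⧸ Z) ^ p = 1 := by
    rw [← QuotientGroup.mk_pow]
    exact (QuotientGroup.eq_one_iff _).2 hyp
  have h3 := pow_gcd_eq_one.2 ⟨h1, h2⟩
  rw [(Nat.coprime_primes hr Fact.out).2 hrp, pow_one] at h3
  rw [← hyc, h3, orderOf_one] at hyo
  exact hr.one_lt.ne hyo

omit [Fintype F] in
/-- A matrix of determinant one and cube one commuting with a transvection `x₀₁(c)` is scalar
when the characteristic is not three. -/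
theorem exists_scalar_of_commute_transvection [Fact p.Prime] [CharP F p] (hp3 : p ≠ 3) {c : F}
    (hc : c ≠ 0) (g : Matrix (Fin 3) (Fin 3) F) (h3 : g ^ 3 = 1) (hdet : g.det = 1)
    (hcomm : Commute g (Matrix.transvection 0 1 c)) : ∃ a : F, g = algebraMap F _ a := by
  have e := hcomm.eq
  have e10 := congrFun (congrFun e 1) 1
  have e20 := congrFun (congrFun e 2) 1
  have e00 := congrFun (congrFun e 0) 1
  have e02 := congrFun (congrFun e 0) 2
  simp [Matrix.mul_apply, Fin.sum_univ_three, Matrix.transvection, Matrix.one_apply, hc] at e10 e20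
  simp [Matrix.mul_apply, Fin.sum_univ_three, Matrix.transvection, Matrix.one_apply] at e00 e02
  have h00 : g 0 0 = g 1 1 :=
    mul_left_cancel₀ hc (by linear_combination e00)
  have h12 : g 1 2 = 0 := by simpa [hc] using e02
  have hd : g 0 0 * g 0 0 * g 2 2 = 1 := by
    rw [← hdet, Matrix.det_fin_three, e10, e20, h12, ← h00]
    ring
  have c00 : g 0 0 ^ 3 = 1 := by
    have := congrFun (congrFun h3 0) 0
    simp [pow_succ, Matrix.mul_apply, Fin.sum_univ_three, e10, e20] at this
    linear_combination this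
  have h22 : g 2 2 = g 0 0 := by linear_combination (g 0 0) * hd - (g 2 2) * c00
  set N := g - algebraMap F (Matrix (Fin 3) (Fin 3) F) (g 0 0) with hN
  have hN3 : N ^ 3 = 0 := by
    ext i j
    fin_cases i <;> fin_cases j <;>
      simp [hN, pow_succ, Matrix.mul_apply, Fin.sum_univ_three, Matrix.algebraMap_matrix_apply,
        e10, e20, h12, h22, ← h00]
  have hp : p.Prime := Fact.out
  have hlt : 3 ≤ p ^ 3 := (Nat.lt_pow_self hp.one_lt).le
  have hpow : g ^ p ^ 3 = algebraMap F _ (g 0 0 ^ p ^ 3) := by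
    rw [map_pow]
    have h := sub_pow_char_pow_of_commute (p := p) 3
      (Algebra.commutes (g 0 0) g).symm
    rw [← hN, pow_eq_zero_of_le hlt hN3] at h
    exact sub_eq_zero.1 h.symm
  have hcop : Nat.gcd (p ^ 3) 3 = 1 :=
    Nat.Coprime.pow_left 3 ((Nat.coprime_primes hp Nat.prime_three).2 hp3)
  obtain ⟨i, j, hij⟩ : ∃ i j : ℕ, p ^ 3 * i = 3 * j + 1 := by
    obtain ⟨i, -, hi⟩ := Nat.exists_mul_mod_eq_one_of_coprime hcop (by norm_num)
    exact ⟨i, p ^ 3 * i / 3, by omega⟩
  refine ⟨(g 0 0 ^ p ^ 3) ^ i, ?_⟩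
  rw [map_pow, ← hpow, ← pow_mul, hij, pow_succ, pow_mul, h3, one_pow, one_mul]

/-- No element of order `3 p` in `PSL₃` when `3` divides `q - 1` exactly once. -/
theorem not_orderOf_rp_three [Fact p.Prime] [CharP F p] (hp3 : p ≠ 3)
    (h3 : 3 ∣ Fintype.card F - 1) (h9 : ¬ 9 ∣ Fintype.card F - 1)
    (x : Matrix.ProjectiveSpecialLinearGroup (Fin 3) F) : orderOf x ≠ 3 * p := by
  haveI : Fact (Nat.Prime 3) := ⟨Nat.prime_three⟩
  intro hx
  have hp : p.Prime := Fact.out
  obtain ⟨u, hu, hu1, hxp, hcom⟩ := exists_unipotent_of_orderOf (by norm_num) Nat.prime_three x hx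
  obtain ⟨g, hg⟩ := SpecLinear.proj_surjective (x ^ p)
  have hcomm : Commute u g := hcom g ⟨p, hg⟩
  have hgns : ¬ ∃ a : F, (g : Matrix (Fin 3) (Fin 3) F) = algebraMap F _ a := fun h => by
    rw [← hg, (SpecLinear.proj_eq_one_iff g).2 h, orderOf_one] at hxp
    norm_num at hxp
  have hg3 : (SpecLinear.proj g) ^ 3 = 1 := by
    rw [hg]
    exact orderOf_dvd_iff_pow_eq_one.1 hxp.dvd
  classical
  obtain ⟨c, hc⟩ := (SpecLinear.proj_pow_eq_one_iff g 3).1 hg3
  set M := (u : Matrix (Fin 3) (Fin 3) F) - 1 with hM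
  have hMp : M ^ p = 0 := by
    rw [hM, sub_pow_char_of_commute p (Commute.one_right _), one_pow,
      ← Matrix.SpecialLinearGroup.coe_pow, hu, Matrix.SpecialLinearGroup.coe_one, sub_self]
  have hgM : Commute (g : Matrix (Fin 3) (Fin 3) F) M :=
    (show Commute (g : Matrix (Fin 3) (Fin 3) F) (u : Matrix (Fin 3) (Fin 3) F) from
      congrArg Subtype.val hcomm.symm.eq).sub_right (Commute.one_right _)
  have hM0 : M ≠ 0 := fun h => hu1 (Subtype.ext (sub_eq_zero.1 h))
  -- a non-zero square-zero power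
  obtain ⟨j, hj1, hj2⟩ : ∃ j, M ^ (j + 1) ≠ 0 ∧ M ^ (j + 2) = 0 := by
    have hex : ∃ j, M ^ (j + 2) = 0 := ⟨p, pow_eq_zero_of_le (by omega) hMp⟩
    refine ⟨Nat.find hex, ?_, Nat.find_spec hex⟩
    rcases Nat.eq_zero_or_pos (Nat.find hex) with h | h
    · rw [h, pow_one]; exact hM0
    · have := Nat.find_min hex (show Nat.find hex - 1 < Nat.find hex by omega)
      rwa [show Nat.find hex - 1 + 2 = Nat.find hex + 1 by omega] at this
  set M' := M ^ (j + 1) with hM'
  have hgM' : Commute (g : Matrix (Fin 3) (Fin 3) F) M' := hgM.pow_right _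
  have hsq : M' * M' = 0 := by
    rw [hM', ← pow_add]
    exact pow_eq_zero_of_le (by omega) hj2
  rcases em (∃ b : F, b ^ 3 = c) with ⟨b, hb⟩ | hb
  · -- `c` is a cube, hence one
    have hdet := congrArg Matrix.det hc
    rw [Matrix.det_pow, Matrix.SpecialLinearGroup.det_coe, one_pow,
      Algebra.algebraMap_eq_smul_one, Matrix.det_smul, Matrix.det_one, mul_one,
      Fintype.card_fin] at hdet
    have hb9 : b ^ 9 = 1 := by rw [show 9 = 3 * 3 from rfl, pow_mul, hb, ← hdet]
    have hc1 : c = 1 := by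
      have hb0 : b ≠ 0 := by rintro rfl; simp at hb9
      have hbq := FiniteField.pow_card_sub_one_eq_one b hb0
      have h := pow_gcd_eq_one.2 ⟨hb9, hbq⟩
      rcases (Nat.dvd_prime_pow Nat.prime_three).1
        (Nat.gcd_dvd_left (3 ^ 2) (Fintype.card F - 1)) with ⟨i, hi, he⟩
      rw [show (9 : ℕ) = 3 ^ 2 from rfl, he] at h
      interval_cases i
      · rw [← hb, show b = 1 by simpa using h, one_pow]
      · rw [← hb, ← h, pow_one]
      · refine absurd ?_ h9
        have h' := Nat.gcd_dvd_right (3 ^ 2) (Fintype.card F - 1)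
        rw [he] at h'
        simpa using h'
    rw [hc1, map_one] at hc
    have hrank : M'.rank = 1 := by
      have hle : LinearMap.range M'.mulVecLin ≤ LinearMap.ker M'.mulVecLin := by
        rintro _ ⟨v, rfl⟩
        rw [LinearMap.mem_ker, ← LinearMap.comp_apply, ← Matrix.mulVecLin_mul, hsq]
        simp
      have h1 := Submodule.finrank_mono hle
      have h2 := LinearMap.finrank_range_add_finrank_ker M'.mulVecLin
      rw [Module.finrank_fin_fun] at h2
      have h0 : M'.rank ≠ 0 := fun h0 => hj1 (by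
        rw [Matrix.rank, Submodule.finrank_eq_zero, LinearMap.range_eq_bot] at h0
        exact Matrix.ext_of_mulVec_single fun i => by
          rw [Matrix.zero_mulVec]
          exact LinearMap.congr_fun h0 (Pi.single i 1))
      change Module.finrank F (LinearMap.range M'.mulVecLin) = 1
      change Module.finrank F (LinearMap.range M'.mulVecLin) ≠ 0 at h0
      omega
    have hdetT : (1 + M').det = 1 := by
      have hpow : (1 + M') ^ p = 1 := by
        rw [add_pow_char_of_commute p (Commute.one_left _), one_pow,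
          pow_eq_zero_of_le hp.two_le (by rw [pow_two, hsq]), add_zero]
      have hd := congrArg Matrix.det hpow
      rw [Matrix.det_pow, Matrix.det_one] at hd
      exact frobenius_inj F p (by simpa [frobenius_def] using hd)
    let t : Matrix.SpecialLinearGroup (Fin 3) F := ⟨1 + M', hdetT⟩
    have htt : Cfsg.IsTransvection (t : Matrix (Fin 3) (Fin 3) F) :=
      ⟨by simpa [t] using hrank, by simpa [t] using hsq⟩
    obtain ⟨e, he, hconj⟩ := CfsgLib.Classical.Linear.exists_isConj_transvection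
      (show (0 : Fin 3) ≠ 1 by decide) htt
    obtain ⟨w, hw⟩ := isConj_iff.1 hconj
    have hgt : Commute g t :=
      Subtype.ext ((Commute.one_right _).add_right hgM').eq
    have hcw : Commute (w * g * w⁻¹) (w * t * w⁻¹) := hgt.map (MulAut.conj w).toMonoidHom
    rw [hw] at hcw
    obtain ⟨a, ha⟩ := exists_scalar_of_commute_transvection (p := p) hp3 he
      ((w * g * w⁻¹ : Matrix.SpecialLinearGroup (Fin 3) F) : Matrix (Fin 3) (Fin 3) F)
      (by
        rw [← Matrix.SpecialLinearGroup.coe_pow, conj_pow,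
          show g ^ 3 = 1 from Subtype.ext hc, mul_one, mul_inv_cancel,
          Matrix.SpecialLinearGroup.coe_one])
      (Matrix.SpecialLinearGroup.det_coe _) (congrArg Subtype.val hcw.eq)
    apply hgns
    refine ⟨a, ?_⟩
    have hz : SpecLinear.proj (w * g * w⁻¹) = 1 := (SpecLinear.proj_eq_one_iff _).2 ⟨a, ha⟩
    rw [map_mul, map_mul, map_inv, mul_inv_eq_one, mul_eq_left] at hz
    obtain ⟨a', ha'⟩ := (SpecLinear.proj_eq_one_iff g).1 hz
    have : (w * g * w⁻¹ : Matrix.SpecialLinearGroup (Fin 3) F) = g := by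
      refine mul_inv_eq_iff_eq_mul.2 (Subtype.ext ?_)
      rw [Matrix.SpecialLinearGroup.coe_mul, Matrix.SpecialLinearGroup.coe_mul, ha']
      exact (Algebra.commutes a' _).symm
    rw [← ha, this]
  · -- `c` is not a cube
    set f : Module.End F (Fin 3 → F) := Matrix.toLinAlgEquiv' (g : Matrix (Fin 3) (Fin 3) F)
    have hf : f ^ 3 = c • 1 := by
      rw [← map_pow, hc, AlgEquiv.commutes, Algebra.algebraMap_eq_smul_one]
    obtain ⟨-, -, hW⟩ := of_pow_eq_smul_nonpower (fun b h => hb ⟨b, h⟩) hf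
    set K := LinearMap.ker (Matrix.toLinAlgEquiv' M') with hK
    have hcM : Commute f (Matrix.toLinAlgEquiv' M') := hgM'.map Matrix.toLinAlgEquiv'
    have hinv : K.map f ≤ K := by
      rintro _ ⟨v, hv, rfl⟩
      rw [hK, LinearMap.mem_ker, ← Module.End.mul_apply, ← hcM.eq, Module.End.mul_apply,
        LinearMap.mem_ker.1 hv, map_zero]
    have hd := hW K hinv
    have hne : K ≠ ⊤ := fun h => hj1 (by
      rw [hK, LinearMap.ker_eq_top] at h
      exact (map_eq_zero_iff _ Matrix.toLinAlgEquiv'.injective).1 h)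
    have hlt := Submodule.finrank_lt hne
    have hbot : K ≠ ⊥ := fun h => hne (eq_top_iff.2 fun v _ => by
      have hmem : Matrix.toLinAlgEquiv' M' v ∈ K := by
        rw [hK, LinearMap.mem_ker, ← Module.End.mul_apply, ← map_mul, hsq, map_zero]
        rfl
      rw [h, Submodule.mem_bot] at hmem
      exact hmem)
    have hpos : Module.finrank F K ≠ 0 := fun h => hbot (Submodule.finrank_eq_zero.1 h)
    rw [Module.finrank_fin_fun] at hlt
    have := Nat.le_of_dvd (Nat.pos_of_ne_zero hpos) hd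
    omega

end Nonexistence

end CfsgLib.PrimeGraphPSL
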