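import Mathlib
import Cfsg.Agent.PrimeGraphPSL.CharAdjacent

/-!
Adjacency of two odd primes prime to the characteristic in the prime graph of `PSL_n(q)`.
-/

set_option autoImplicit false

namespace CfsgLib.PrimeGraphPSL

open Matrix CfsgLib.Classical.Semisimple

variable {F : Type*} [Field F] [Fintype F]

/-- Elements of `GL_l` from the multiplicative group of the field with `q ^ l` elements. -/
theorem exists_gl_orderOf_of_dvd {l d : ℕ} (hl : 0 < l) (hd : d ∣ Fintype.card F ^ l - 1) :
    ∃ A : GL (Fin l) F, orderOf A = d := by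
  classical
  obtain ⟨p, hp⟩ := CharP.exists F
  haveI : Fact p.Prime := ⟨CharP.char_is_prime F p⟩
  haveI : NeZero l := ⟨hl.ne'⟩
  have hfin : Module.finrank F (FiniteField.Extension F p l) = l :=
    FiniteField.finrank_extension F p l
  haveI : Module.Finite F (FiniteField.Extension F p l) :=
    Module.finite_of_finrank_pos (by rw [hfin]; exact hl)
  haveI : Finite (FiniteField.Extension F p l) := Module.finite_of_finite F
  haveI : Fintype (FiniteField.Extension F p l) := Fintype.ofFinite _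
  let b := Module.finBasisOfFinrankEq F (FiniteField.Extension F p l) hfin
  let φ : (FiniteField.Extension F p l)ˣ →* GL (Fin l) F :=
    Units.map (Algebra.leftMulMatrix b).toMonoidHom
  have hφ : Function.Injective φ :=
    Units.map_injective (Algebra.leftMulMatrix_injective b)
  have hcard : Nat.card (FiniteField.Extension F p l)ˣ = Fintype.card F ^ l - 1 := by
    rw [Nat.card_units, Module.natCard_eq_pow_finrank (K := F), hfin, Nat.card_eq_fintype_card]
  obtain ⟨c, hc⟩ := IsCyclic.exists_generator (α := (FiniteField.Extension F p l)ˣ)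
  obtain ⟨e, he⟩ := hd
  have h0 : 0 < Fintype.card F ^ l - 1 :=
    Nat.sub_pos_of_lt (Nat.one_lt_pow hl.ne' Fintype.one_lt_card)
  have he0 : e ≠ 0 := by rintro rfl; simp at he; omega
  refine ⟨φ (c ^ e), ?_⟩
  rw [orderOf_injective φ hφ, orderOf_pow' _ he0, orderOf_eq_card_of_forall_mem_zpowers hc, hcard,
    he, Nat.gcd_eq_right (dvd_mul_left e d), Nat.mul_div_cancel _ (Nat.pos_of_ne_zero he0)]

omit [Fintype F] in
/-- Block diagonal sum as a matrix. -/
theorem reindex_fromBlocks_pow {a b n : ℕ} (h : a + b = n) (A : Matrix (Fin a) (Fin a) F)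
    (B : Matrix (Fin b) (Fin b) F) (m : ℕ) :
    Matrix.reindexAlgEquiv F F (blockEquiv h) (Matrix.fromBlocks A 0 0 B) ^ m = 1 ↔
      A ^ m = 1 ∧ B ^ m = 1 := by
  rw [← map_pow, map_eq_one_iff _ (AlgEquiv.injective _), fromBlocks_pow, ← Matrix.fromBlocks_one,
    Matrix.fromBlocks_inj]
  simp

/-- An element of `SL_a`-type order embeds in `PSL_n` when the order is prime to `q - 1`. -/
theorem exists_orderOf_psl_of_matrix {a n d : ℕ} (hn : 0 < n) (hd : 0 < d) (han : a ≤ n)
    (hcop : Nat.Coprime d (Fintype.card F - 1)) (A : Matrix (Fin a) (Fin a) F)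
    (hA : orderOf A = d) :
    ∃ x : Matrix.ProjectiveSpecialLinearGroup (Fin n) F, orderOf x = d := by
  classical
  obtain ⟨b, rfl⟩ : ∃ b, n = a + b := ⟨n - a, by omega⟩
  have hd0 : A ^ d = 1 := hA ▸ pow_orderOf_eq_one A
  have hdet : A.det = 1 := by
    have h1 : A.det ^ d = 1 := by rw [← Matrix.det_pow, hd0, Matrix.det_one]
    have h0 : A.det ≠ 0 := fun h0 => by simp [h0, hd.ne'] at h1
    have h := pow_gcd_eq_one.2 ⟨h1, FiniteField.pow_card_sub_one_eq_one _ h0⟩
    rwa [hcop, pow_one] at h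
  set g := blockSL (rfl : a + b = a + b) A (1 : Matrix (Fin b) (Fin b) F)
    (by rw [hdet, Matrix.det_one, one_mul]) with hg
  have hgd : orderOf g = d := by
    rw [← hA, orderOf_eq_orderOf_iff]
    intro m
    refine Subtype.ext_iff.trans ?_
    rw [Matrix.SpecialLinearGroup.coe_pow, Matrix.SpecialLinearGroup.coe_one,
      hg, blockSL, reindex_fromBlocks_pow]
    simp
  refine ⟨SpecLinear.proj g, Nat.dvd_antisymm (hgd ▸ orderOf_map_dvd _ g) ?_⟩
  set Z := Subgroup.center (Matrix.SpecialLinearGroup (Fin (a + b)) F)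
  have hz : g ^ orderOf (SpecLinear.proj g) ∈ Z := by
    have h := pow_orderOf_eq_one (SpecLinear.proj g)
    rw [← map_pow] at h
    exact (QuotientGroup.eq_one_iff _).1 h
  have hcard : Nat.card Z ∣ Fintype.card F - 1 := by
    haveI : Nonempty (Fin (a + b)) := ⟨⟨0, hn⟩⟩
    rw [CfsgLib.Classical.Linear.center_sl_card]
    exact Nat.gcd_dvd_right _ _
  have h1 : g ^ (orderOf (SpecLinear.proj g) * Nat.card Z) = 1 := by
    rw [pow_mul]
    exact congrArg Subtype.val (pow_card_eq_one' (x := (⟨_, hz⟩ : Z)))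
  rw [← hgd] at hcop ⊢
  exact (hcop.coprime_dvd_right hcard).dvd_of_dvd_mul_right (orderOf_dvd_of_pow_eq_one h1)

/-- Two commuting maps of prime orders with large moved spaces. -/
theorem moved_spaces_bound {V : Type*} [AddCommGroup V] [Module F V] [FiniteDimensional F V]
    {r s : ℕ} [hr : Fact r.Prime] [hs : Fact s.Prime] (hrF : (r : F) ≠ 0) (hsF : (s : F) ≠ 0)
    (Y Z : Module.End F V) (hY : Y ^ r = 1) (hZ : Z ^ s = 1) (hc : Commute Y Z) (hY1 : Y ≠ 1)
    (hZ1 : Z ≠ 1) :
    orderOf (Fintype.card F : ZMod r) + orderOf (Fintype.card F : ZMod s) ≤ Module.finrank F V ∨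
      Nat.lcm (orderOf (Fintype.card F : ZMod r)) (orderOf (Fintype.card F : ZMod s)) ≤
        Module.finrank F V := by
  set U := LinearMap.range (Y - (1 : F) • 1) with hU
  set W := LinearMap.range (Z - (1 : F) • 1) with hW
  have hdvd : ∀ {t : ℕ} [Fact t.Prime] (_ : (t : F) ≠ 0) (f : Module.End F V) (_ : f ^ t = 1)
      (S : Submodule F V) (_ : S ≤ LinearMap.range (f - (1 : F) • 1)) (_ : ∀ v ∈ S, f v ∈ S),
      orderOf (Fintype.card F : ZMod t) ∣ Module.finrank F S := by
    intro t _ htF f hf S hS hinv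
    set g : Module.End F S := LinearMap.restrict f hinv
    have hgpow : ∀ (k : ℕ) (w : S), ((g ^ k) w : V) = (f ^ k) (w : V) := by
      intro k
      induction k with
      | zero => intro w; rfl
      | succ k ih =>
        intro w
        rw [pow_succ, pow_succ, Module.End.mul_apply, Module.End.mul_apply, ih]
        rfl
    have hg : g ^ t = 1 := LinearMap.ext fun w => Subtype.ext (by rw [hgpow, hf]; rfl)
    have hinj : LinearMap.ker (g - (1 : F) • 1) = ⊥ := by
      rw [eq_bot_iff]
      intro w hw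
      have h1 : (w : V) ∈ LinearMap.ker (f - (1 : F) • 1) := by
        have := congrArg Subtype.val (LinearMap.mem_ker.1 hw)
        simpa [g] using this
      have h2 := (Submodule.disjoint_def.1
        (isCompl_ker_range (isSemisimple_of_pow_eq_one htF hf) 1).disjoint) _ h1 (hS w.2)
      exact (Submodule.mem_bot F).2 (Subtype.ext h2)
    have htop := LinearMap.range_eq_top.2
      (LinearMap.injective_iff_surjective.1 (LinearMap.ker_eq_bot.1 hinj))
    have := orderOf_dvd_finrank_range htF hg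
    rwa [htop, finrank_top] at this
  have hUinv : ∀ v ∈ U, Y v ∈ U ∧ Z v ∈ U := by
    rintro _ ⟨v, rfl⟩
    refine ⟨⟨Y v, by simp⟩, ⟨Z v, ?_⟩⟩
    have := LinearMap.congr_fun hc.eq v
    simp only [Module.End.mul_apply] at this
    simp [this]
  have hWinv : ∀ v ∈ W, Y v ∈ W ∧ Z v ∈ W := by
    rintro _ ⟨v, rfl⟩
    refine ⟨⟨Y v, ?_⟩, ⟨Z v, by simp⟩⟩
    have := LinearMap.congr_fun hc.eq v
    simp only [Module.End.mul_apply] at this
    simp [this]
  have hne : ∀ f : Module.End F V, f ≠ 1 →
      Module.finrank F (LinearMap.range (f - (1 : F) • 1)) ≠ 0 := fun f hf h => by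
    rw [Submodule.finrank_eq_zero, LinearMap.range_eq_bot, one_smul, sub_eq_zero] at h
    exact hf h
  rcases Nat.eq_zero_or_pos (Module.finrank F ↥(U ⊓ W)) with h0 | h0
  · left
    have h1 := Submodule.finrank_sup_add_finrank_inf_eq U W
    have h2 := Submodule.finrank_le (U ⊔ W)
    have h3 : orderOf (Fintype.card F : ZMod r) ≤ Module.finrank F U := Nat.le_of_dvd (Nat.pos_of_ne_zero (hne Y hY1))
      (hdvd hrF Y hY U le_rfl fun v hv => (hUinv v hv).1)
    have h4 : orderOf (Fintype.card F : ZMod s) ≤ Module.finrank F W := Nat.le_of_dvd (Nat.pos_of_ne_zero (hne Z hZ1))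
      (hdvd hsF Z hZ W le_rfl fun v hv => (hWinv v hv).2)
    omega
  · right
    refine le_trans (Nat.le_of_dvd h0 ?_) (Submodule.finrank_le _)
    exact Nat.lcm_dvd
      (hdvd hrF Y hY _ inf_le_left fun v hv => ⟨(hUinv v hv.1).1, (hWinv v hv.2).1⟩)
      (hdvd hsF Z hZ _ inf_le_right fun v hv => ⟨(hUinv v hv.1).2, (hWinv v hv.2).2⟩)

end CfsgLib.PrimeGraphPSL
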