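import Mathlib
import Cfsg.Agent.Classical.Linear.Card
import Cfsg.Agent.Classical.Semisimple.Singer
import Cfsg.Agent.CommutingOrderP.Basic
import Cfsg.Agent.SpecLinear.Group

/-!
The image of the norm-one Singer cycle in `PSL_n(q)` and the elements commuting with an element of
primitive prime order.
-/

set_option autoImplicit false

namespace CfsgLib.PrimeGraphPSL

variable {F : Type*} [Field F] [Fintype F]

theorem mem_range_of_pow_card_eq {L : Type*} [Field L] [Algebra F L] {x : L}
    (hx : x ^ Fintype.card F = x) : ∃ c : F, algebraMap F L c = x := by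
  classical
  have hq : 1 < Fintype.card F := Fintype.one_lt_card
  have hroots := Polynomial.roots_map_of_injective_of_card_eq_natDegree
    (p := (Polynomial.X ^ Fintype.card F - Polynomial.X : Polynomial F))
    (algebraMap F L).injective
    (by rw [FiniteField.roots_X_pow_card_sub_X, FiniteField.X_pow_card_sub_X_natDegree_eq F hq]
        rfl)
  rw [FiniteField.roots_X_pow_card_sub_X, Polynomial.map_sub, Polynomial.map_pow,
    Polynomial.map_X] at hroots
  have hmem : x ∈ ((Polynomial.X ^ Fintype.card F - Polynomial.X : Polynomial L)).roots := by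
    rw [Polynomial.mem_roots (FiniteField.X_pow_card_sub_X_ne_zero L hq)]
    simp [hx]
  rw [← hroots, Multiset.mem_map] at hmem
  obtain ⟨c, -, hc⟩ := hmem
  exact ⟨c, hc⟩

theorem sum_pow_modEq {q : ℕ} (hq : 1 ≤ q) (n : ℕ) :
    (∑ i ∈ Finset.range n, q ^ i) ≡ n [MOD q - 1] := by
  induction n with
  | zero => exact Nat.ModEq.refl 0
  | succ n ih =>
    rw [Finset.sum_range_succ]
    refine ih.add ?_
    have h : q ≡ 1 [MOD q - 1] := ((Nat.modEq_iff_dvd' hq).2 dvd_rfl).symm
    simpa using h.pow n

theorem gcd_sum_pow {q : ℕ} (hq : 1 ≤ q) (n : ℕ) :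
    Nat.gcd (∑ i ∈ Finset.range n, q ^ i) (q - 1) = Nat.gcd n (q - 1) := by
  exact (sum_pow_modEq hq n).gcd_eq

variable {n : ℕ}

/-- Scalar powers in `PSL` of a matrix acting as a multiplication. -/
theorem proj_pow_eq_one_iff_of_lmul {L : Type*} [Field L] [Algebra F L]
    (hn : 0 < n) (g : Matrix.SpecialLinearGroup (Fin n) F) (a : L) (E : (Fin n → F) ≃ₗ[F] L)
    (hE : ∀ v, E ((g : Matrix (Fin n) (Fin n) F).mulVec v) = a * E v) (j : ℕ) :
    SpecLinear.proj g ^ j = 1 ↔ ∃ c : F, a ^ j = algebraMap F L c := by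
  have hpow : ∀ (k : ℕ) v, E (((g : Matrix (Fin n) (Fin n) F) ^ k).mulVec v) = a ^ k * E v := by
    intro k
    induction k with
    | zero => intro v; simp
    | succ k ih => intro v; rw [pow_succ, ← Matrix.mulVec_mulVec, ih, hE, pow_succ, mul_assoc]
  rw [SpecLinear.proj_pow_eq_one_iff]
  refine exists_congr fun c => ⟨fun h => ?_, fun h => ?_⟩
  · have h1 := hpow j (E.symm 1)
    rw [h, Algebra.algebraMap_eq_smul_one, Matrix.smul_mulVec, Matrix.one_mulVec, map_smul,
      E.apply_symm_apply, mul_one, Algebra.smul_def, mul_one] at h1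
    exact h1.symm
  · refine Matrix.ext_of_mulVec_single fun i => E.injective ?_
    rw [hpow, h, Algebra.algebraMap_eq_smul_one c, smul_mul_assoc, one_mul,
      Algebra.algebraMap_eq_smul_one c, Matrix.smul_mulVec, Matrix.one_mulVec, map_smul]

/-- Every element commuting with a lift of primitive prime order has order dividing
`(q ^ n - 1) / ((q - 1) gcd (n, q - 1))`. -/
theorem orderOf_dvd_of_commute_primitive {r : ℕ} [hr : Fact r.Prime] (hn : 0 < n)
    (hrF : (r : F) ≠ 0) (hi : orderOf (Fintype.card F : ZMod r) = n)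
    (g g' : Matrix.SpecialLinearGroup (Fin n) F) (hg' : g' ^ r = 1) (hg1 : g' ≠ 1)
    (hc : Commute g g') :
    orderOf (SpecLinear.proj g) ∣
      (∑ i ∈ Finset.range n, Fintype.card F ^ i) / Nat.gcd n (Fintype.card F - 1) := by
  classical
  obtain ⟨p, hp⟩ := CharP.exists F
  haveI : Fact p.Prime := ⟨CharP.char_is_prime F p⟩
  haveI : NeZero n := ⟨hn.ne'⟩
  have hfin : Module.finrank F (FiniteField.Extension F p n) = n :=
    FiniteField.finrank_extension F p n
  haveI : Module.Finite F (FiniteField.Extension F p n) :=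
    Module.finite_of_finrank_pos (by rw [hfin]; exact hn)
  haveI : Finite (FiniteField.Extension F p n) := Module.finite_of_finite F
  haveI : Fintype (FiniteField.Extension F p n) := Fintype.ofFinite _
  let L := FiniteField.Extension F p n
  let e0 : (Fin n → F) ≃ₗ[F] L :=
    (Module.finBasisOfFinrankEq F L hfin).equivFun.symm
  let tr : Matrix (Fin n) (Fin n) F → Module.End F L := fun M =>
    (e0.toLinearMap.comp (Matrix.mulVecLin M)).comp e0.symm.toLinearMap
  have htr : ∀ M x, tr M x = e0 (M.mulVec (e0.symm x)) := fun M x => rfl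
  have htr_mul : ∀ M N, tr (M * N) = tr M * tr N := fun M N => LinearMap.ext fun x => by
    rw [Module.End.mul_apply, htr, htr, htr, e0.symm_apply_apply, Matrix.mulVec_mulVec]
  have htr_one : tr 1 = 1 := LinearMap.ext fun x => by rw [htr]; simp
  have htr_pow : ∀ M k, tr (M ^ k) = tr M ^ k := fun M k => by
    induction k with
    | zero => simpa using htr_one
    | succ k ih => rw [pow_succ, pow_succ, htr_mul, ih]
  have hf : tr (g' : Matrix (Fin n) (Fin n) F) ^ r = 1 := by
    rw [← htr_pow, ← Matrix.SpecialLinearGroup.coe_pow, hg', Matrix.SpecialLinearGroup.coe_one,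
      htr_one]
  have hf1 : tr (g' : Matrix (Fin n) (Fin n) F) ≠ 1 := fun h => hg1 (Subtype.ext
    (Matrix.ext_of_mulVec_single fun i => by
      have h1 := LinearMap.congr_fun h (e0 (Pi.single i 1))
      rw [htr, e0.symm_apply_apply, Module.End.one_apply] at h1
      rw [Matrix.SpecialLinearGroup.coe_one, Matrix.one_mulVec]
      exact e0.injective h1))
  obtain ⟨e, he⟩ := CfsgLib.Classical.Semisimple.exists_conj_lmul (K := L) hrF
    (by rw [hfin]; exact hi) hf hf1
  obtain ⟨a, ha⟩ := he (tr (g : Matrix (Fin n) (Fin n) F)) (by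
    rw [← htr_mul, ← htr_mul, ← Matrix.SpecialLinearGroup.coe_mul,
      ← Matrix.SpecialLinearGroup.coe_mul, hc.eq])
  have hE : ∀ v, (e0.trans e) ((g : Matrix (Fin n) (Fin n) F).mulVec v) = a * (e0.trans e) v :=
    fun v => by
      have := ha (e0 v)
      rwa [htr, e0.symm_apply_apply] at this
  have hnorm : Algebra.norm F a = 1 := by
    have hconj : Algebra.lmul F L a = (((e0.trans e).toLinearMap.comp
        (Matrix.mulVecLin (g : Matrix (Fin n) (Fin n) F))).comp
          (e0.trans e).symm.toLinearMap) := by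
      refine LinearMap.ext fun x => ?_
      show a * x = _
      rw [LinearMap.comp_apply, LinearMap.comp_apply, LinearEquiv.coe_coe, LinearEquiv.coe_coe,
        Matrix.mulVecLin_apply, hE, LinearEquiv.apply_symm_apply]
    rw [Algebra.norm_apply, hconj, LinearMap.comp_assoc, LinearMap.det_conj,
      ← Matrix.toLin'_apply', LinearMap.det_toLin']
    exact g.2
  have hT : a ^ (∑ i ∈ Finset.range n, Fintype.card F ^ i) = 1 := by
    have h := FiniteField.algebraMap_norm_eq_pow (K := F) (K' := L) (x := a)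
    rw [hnorm, map_one, Module.natCard_eq_pow_finrank (K := F), hfin, Nat.card_eq_fintype_card,
      ← Nat.geomSum_eq Fintype.one_lt_card] at h
    exact h.symm
  have hdT : Nat.gcd n (Fintype.card F - 1) ∣ ∑ i ∈ Finset.range n, Fintype.card F ^ i := by
    rw [← gcd_sum_pow Fintype.card_pos n]
    exact Nat.gcd_dvd_left _ _
  refine orderOf_dvd_of_pow_eq_one ((proj_pow_eq_one_iff_of_lmul hn g a _ hE _).2 ?_)
  obtain ⟨c, hc'⟩ := mem_range_of_pow_card_eq (F := F)
    (x := a ^ ((∑ i ∈ Finset.range n, Fintype.card F ^ i) / Nat.gcd n (Fintype.card F - 1))) (by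
      obtain ⟨k, hk⟩ := Nat.gcd_dvd_right n (Fintype.card F - 1)
      have h1 : (a ^ ((∑ i ∈ Finset.range n, Fintype.card F ^ i) /
          Nat.gcd n (Fintype.card F - 1))) ^ (Fintype.card F - 1) = 1 := by
        conv_lhs => arg 2; rw [hk]
        rw [← pow_mul, ← mul_assoc, Nat.div_mul_cancel hdT, pow_mul, hT, one_pow]
      rw [show Fintype.card F = (Fintype.card F - 1) + 1 from
        (Nat.sub_add_cancel Fintype.card_pos).symm, pow_succ]
      rw [show Fintype.card F - 1 + 1 = Fintype.card F from Nat.sub_add_cancel Fintype.card_pos]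
      rw [h1, one_mul])
  exact ⟨c, hc'.symm⟩

/-- An element of `PSL_n` of order `(q ^ n - 1) / ((q - 1) gcd (n, q - 1))`. -/
theorem exists_orderOf_singer (hn : 0 < n) :
    ∃ x : Matrix.ProjectiveSpecialLinearGroup (Fin n) F, orderOf x =
      (∑ i ∈ Finset.range n, Fintype.card F ^ i) / Nat.gcd n (Fintype.card F - 1) := by
  classical
  obtain ⟨p, hp⟩ := CharP.exists F
  haveI : Fact p.Prime := ⟨CharP.char_is_prime F p⟩
  haveI : NeZero n := ⟨hn.ne'⟩
  have hfin : Module.finrank F (FiniteField.Extension F p n) = n :=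
    FiniteField.finrank_extension F p n
  haveI : Module.Finite F (FiniteField.Extension F p n) :=
    Module.finite_of_finrank_pos (by rw [hfin]; exact hn)
  haveI : Finite (FiniteField.Extension F p n) := Module.finite_of_finite F
  haveI : Fintype (FiniteField.Extension F p n) := Fintype.ofFinite _
  let L := FiniteField.Extension F p n
  set q := Fintype.card F with hq
  have hq1 : 1 < q := Fintype.one_lt_card
  set T := ∑ i ∈ Finset.range n, q ^ i with hTdef
  have hTmul : T * (q - 1) = q ^ n - 1 := geom_sum_mul_of_one_le hq1.le n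
  obtain ⟨c, hc⟩ := IsCyclic.exists_generator (α := Lˣ)
  have hcord : orderOf c = T * (q - 1) := by
    rw [orderOf_eq_card_of_forall_mem_zpowers hc, Nat.card_units,
      Module.natCard_eq_pow_finrank (K := F), hfin, Nat.card_eq_fintype_card, hTmul]
  have hy : orderOf (c ^ (q - 1)) = T := by
    rw [orderOf_pow' _ (by omega), hcord, Nat.gcd_eq_right (dvd_mul_left _ T),
      Nat.mul_div_cancel _ (by omega)]
  set a : L := ((c ^ (q - 1) : Lˣ) : L) with ha
  let b := Module.finBasisOfFinrankEq F L hfin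
  have hdet : (Algebra.leftMulMatrix b a).det = 1 := by
    rw [← Algebra.norm_eq_matrix_det, ha, Units.val_pow_eq_pow_val, map_pow]
    exact FiniteField.pow_card_sub_one_eq_one _ (by simp [Algebra.norm_ne_zero_iff])
  let g : Matrix.SpecialLinearGroup (Fin n) F := ⟨Algebra.leftMulMatrix b a, hdet⟩
  have hE : ∀ v, b.equivFun.symm ((g : Matrix (Fin n) (Fin n) F).mulVec v) =
      a * b.equivFun.symm v := by
    intro v
    apply b.equivFun.injective
    rw [LinearEquiv.apply_symm_apply]
    funext i
    show (Algebra.leftMulMatrix b a).mulVec v i = b.repr (a * b.equivFun.symm v) i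
    rw [← Algebra.leftMulMatrix_mulVec_repr b a (b.equivFun.symm v)]
    congr 1
    exact (b.equivFun.apply_symm_apply v).symm
  refine ⟨SpecLinear.proj g, Nat.dvd_antisymm ?_ ?_⟩
  · have hd : Nat.gcd n (q - 1) ∣ T := by
      rw [← gcd_sum_pow hq1.le n]
      exact Nat.gcd_dvd_left _ _
    refine orderOf_dvd_of_pow_eq_one ((proj_pow_eq_one_iff_of_lmul hn g a _ hE _).2 ?_)
    obtain ⟨k, hk⟩ := Nat.gcd_dvd_right n (q - 1)
    obtain ⟨c', hc'⟩ := mem_range_of_pow_card_eq (F := F) (x := a ^ (T / Nat.gcd n (q - 1))) (by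
      have h1 : (a ^ (T / Nat.gcd n (q - 1))) ^ (q - 1) = 1 := by
        conv_lhs => arg 2; rw [hk]
        rw [← pow_mul, ← mul_assoc, Nat.div_mul_cancel hd, ha, ← Units.val_pow_eq_pow_val, pow_mul]
        rw [show (c ^ (q - 1)) ^ T = 1 from hy ▸ pow_orderOf_eq_one _, one_pow, Units.val_one]
      rw [← hq, show q = (q - 1) + 1 from (Nat.sub_add_cancel hq1.le).symm, pow_succ]
      rw [show q - 1 + 1 = q from Nat.sub_add_cancel hq1.le, h1, one_mul])
    exact ⟨c', hc'.symm⟩
  · obtain ⟨c', hc'⟩ := (proj_pow_eq_one_iff_of_lmul hn g a _ hE _).1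
      (pow_orderOf_eq_one (SpecLinear.proj g))
    set N := orderOf (SpecLinear.proj g)
    have hc0 : c' ≠ 0 := fun h => by
      rw [h, map_zero] at hc'
      exact pow_ne_zero _ (Units.ne_zero _) hc'
    have h1 : (c ^ (q - 1)) ^ (N * (q - 1)) = 1 := by
      refine Units.ext ?_
      rw [Units.val_pow_eq_pow_val, Units.val_one, ← ha, pow_mul, hc', ← map_pow, hq,
        FiniteField.pow_card_sub_one_eq_one _ hc0, map_one]
    have h2 := orderOf_dvd_of_pow_eq_one h1
    rw [hy] at h2
    have hd0 : 0 < Nat.gcd n (q - 1) := Nat.gcd_pos_of_pos_left _ hn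
    obtain ⟨k, hk⟩ := Nat.gcd_dvd_right n (q - 1)
    obtain ⟨M, hM⟩ : Nat.gcd n (q - 1) ∣ T := by
      rw [← gcd_sum_pow hq1.le n]
      exact Nat.gcd_dvd_left _ _
    rw [hM, Nat.mul_div_cancel_left _ hd0]
    have hcop : Nat.Coprime M k := by
      have h3 := gcd_sum_pow hq1.le n
      rw [← hTdef, hM] at h3
      nth_rw 2 [hk] at h3
      rw [Nat.gcd_mul_left] at h3
      exact Nat.eq_of_mul_eq_mul_left hd0 (h3.trans (mul_one _).symm)
    rw [hM] at h2
    nth_rw 2 [hk] at h2
    rw [mul_left_comm N] at h2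
    exact hcop.dvd_of_dvd_mul_right (Nat.dvd_of_mul_dvd_mul_left hd0 h2)

end CfsgLib.PrimeGraphPSL
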